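import Groth.Agent.AlgSpDec.LimFiniteScheme

/-!
# A limit integral over the base is eventually finite over it
-/

set_option autoImplicit false
set_option backward.isDefEq.respectTransparency false
set_option backward.isDefEq.respectTransparency.types false
universe u
open CategoryTheory CategoryTheory.Limits AlgebraicGeometry TopologicalSpace

namespace Groth.Agent.LimIntFin

theorem isFinite_homOfLE {X : Scheme.{u}} {U V : X.Opens} (e : U ≤ V) (h : U = V) :
    IsFinite (X.homOfLE e) := by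
  subst h
  rw [Scheme.homOfLE_rfl]
  infer_instance

theorem exists_isFinite {I : Type u} [SmallCategory I] [IsCofiltered I] {S : Scheme.{u}} [CompactSpace S]
    [QuasiSeparatedSpace S] (D : I ⥤ Over S) (c : Cone D) (hc : IsLimit c)
    [∀ (i j : I) (f : i ⟶ j), IsFinite (D.map f).left] [∀ i, CompactSpace (D.obj i).left]
    [∀ i, QuasiSeparatedSpace (D.obj i).left] [∀ i, LocallyOfFiniteType (D.obj i).hom]
    [IsIntegralHom c.pt.hom] :
    ∃ i₀ : I, ∀ (i : I) (_ : i ⟶ i₀), IsFinite (D.obj i).hom := by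
  classical
  haveI := IsCofiltered.isConnected I
  let D' : I ⥤ Scheme.{u} := D ⋙ CategoryTheory.Over.forget S
  let c' : Cone D' := (CategoryTheory.Over.forget S).mapCone c
  let hc' : IsLimit c' := isLimitOfPreserves (CategoryTheory.Over.forget S) hc
  haveI : ∀ {i j : I} (f : i ⟶ j), IsAffineHom (D'.map f) := fun {i j} f => by
    haveI : IsFinite (D.map f).left := inferInstance
    show IsAffineHom (D.map f).left
    infer_instance
  obtain ⟨i₁⟩ : Nonempty I := IsCofiltered.nonempty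
  have key : ∀ V : S.affineOpens, ∃ j : Over i₁, ∀ k : Over i₁, Nonempty (k ⟶ j) →
      IsFinite ((D.obj k.left).hom ∣_ V.1) := by
    intro V
    let W : (D'.obj i₁).Opens := (D.obj i₁).hom ⁻¹ᵁ V.1
    have hpre : ∀ k : Over i₁, D'.map k.hom ⁻¹ᵁ W = (D.obj k.left).hom ⁻¹ᵁ V.1 := fun k => by
      show (D.map k.hom).left ⁻¹ᵁ ((D.obj i₁).hom ⁻¹ᵁ V.1) = _
      exact (Scheme.Hom.comp_preimage _ _ _).symm.trans (congrArg (· ⁻¹ᵁ V.1) (Over.w (D.map k.hom)))
    let R := opensDiagram D' i₁ W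
    haveI : ∀ {k l : Over i₁} (f : k ⟶ l), IsFinite (R.map f) := fun {k l} f => by
      haveI : IsFinite (D'.map f.left) := inferInstanceAs (IsFinite (D.map f.left).left)
      show IsFinite ((D'.map f.left).resLE _ _ _)
      delta Scheme.Hom.resLE
      haveI : IsFinite (D'.map f.left ∣_ (D'.map l.hom ⁻¹ᵁ W)) :=
        IsZariskiLocalAtTarget.restrict (P := @IsFinite) ‹_› _
      refine MorphismProperty.comp_mem _ _ _ (isFinite_homOfLE _ ?_) ‹_›
      exact (congrArg (fun g => D'.map g ⁻¹ᵁ W) (Over.w f)).symm.trans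
        ((congrArg (· ⁻¹ᵁ W) (D'.map_comp _ _)).trans (Scheme.Hom.comp_preimage _ _ _))
    have hle : ∀ k : Over i₁, D'.map k.hom ⁻¹ᵁ W ≤ (D.obj k.left).hom ⁻¹ᵁ V.1 := fun k => (hpre k).le
    let r : ∀ k : Over i₁, R.obj k ⟶ (V.1 : Scheme.{u}) := fun k =>
      (D.obj k.left).hom.resLE V.1 _ (hle k)
    haveI : ∀ k : Over i₁, CompactSpace (R.obj k) := fun k => by
      refine isCompact_iff_compactSpace.mp ?_
      rw [hpre k]
      haveI : QuasiCompact (D.obj k.left).hom := quasiCompact_of_compactSpace _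
      exact (D.obj k.left).hom.isCompact_preimage V.2.isCompact
    haveI : ∀ i, QuasiSeparatedSpace (D'.obj i) :=
      fun i => inferInstanceAs (QuasiSeparatedSpace (D.obj i).left)
    haveI : ∀ k : Over i₁, QuasiSeparatedSpace (R.obj k) := fun k =>
      QuasiSeparatedSpace.of_isOpenEmbedding (Scheme.Opens.ι (D'.map k.hom ⁻¹ᵁ W)).isOpenEmbedding
    haveI : ∀ k : Over i₁, LocallyOfFiniteType (r k) := fun k => by
      show LocallyOfFiniteType ((D.obj k.left).hom.resLE V.1 _ (hle k))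
      delta Scheme.Hom.resLE; infer_instance
    haveI : IsAffine (V.1 : Scheme.{u}) := V.2
    have hcpre : c'.π.app i₁ ⁻¹ᵁ W = c.pt.hom ⁻¹ᵁ V.1 := by
      show (c.π.app i₁).left ⁻¹ᵁ ((D.obj i₁).hom ⁻¹ᵁ V.1) = _
      exact (Scheme.Hom.comp_preimage _ _ _).symm.trans
        (congrArg (· ⁻¹ᵁ V.1) (Over.w (c.π.app i₁)))
    let q : (opensCone D' c' i₁ W).pt ⟶ (V.1 : Scheme.{u}) :=
      c.pt.hom.resLE V.1 _ hcpre.le
    haveI : IsIntegralHom q := by
      show IsIntegralHom (c.pt.hom.resLE V.1 _ hcpre.le)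
      delta Scheme.Hom.resLE
      haveI : IsIntegralHom (c.pt.hom ∣_ V.1) := IsZariskiLocalAtTarget.restrict ‹_› _
      refine MorphismProperty.comp_mem _ _ _ ?_ ‹_›
      haveI := isFinite_homOfLE (X := c.pt.left) hcpre.le hcpre
      exact ((IsFinite.iff_isIntegralHom_and_locallyOfFiniteType _).1 ‹_›).1
    obtain ⟨j, hj⟩ := AlgSpDec.exists_isFinite_stage (isLimitOpensCone D' c' hc' i₁ W) r
      (fun {k l} f => by
        show (D'.map f.left).resLE _ _ _ ≫ (D.obj l.left).hom.resLE _ _ _ = _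
        rw [Scheme.Hom.resLE_comp_resLE]
        simp only [r, show D'.map f.left ≫ (D.obj l.left).hom = (D.obj k.left).hom from Over.w (D.map f.left)])
      q (fun k => by
        show (c'.π.app k.left).resLE _ _ _ ≫ (D.obj k.left).hom.resLE _ _ _ = _
        rw [Scheme.Hom.resLE_comp_resLE]
        simp only [q, show c'.π.app k.left ≫ (D.obj k.left).hom = c.pt.hom from Over.w (c.π.app k.left)])
    refine ⟨j, fun k ⟨f⟩ => ?_⟩
    have h : IsFinite (r k) := hj k f
    have e : (D.obj k.left).hom.resLE V.1 _ le_rfl = (D.obj k.left).hom ∣_ V.1 :=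
      Scheme.Hom.resLE_eq_morphismRestrict _
    rw [← e]
    have : ∀ (O : (D.obj k.left).left.Opens) (hO : O = (D.obj k.left).hom ⁻¹ᵁ V.1),
        IsFinite ((D.obj k.left).hom.resLE V.1 O hO.le) →
        IsFinite ((D.obj k.left).hom.resLE V.1 _ (le_refl ((D.obj k.left).hom ⁻¹ᵁ V.1))) := by
      rintro O rfl h; exact h
    exact this _ (hpre k) h
  choose j hj using key
  obtain ⟨s, hs⟩ := isCompact_univ.elim_finite_subcover (fun V : S.affineOpens => (V.1 : Set S))
    (fun V => V.1.isOpen) (fun x _ => by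
      obtain ⟨V, hV, hxV, -⟩ :=
        exists_isAffineOpen_mem_and_subset (X := S) (x := x) (U := ⊤) trivial
      exact Set.mem_iUnion.mpr ⟨⟨V, hV⟩, hxV⟩)
  obtain ⟨j₀, hj₀⟩ := IsCofiltered.inf_objs_exists (s.image j)
  refine ⟨j₀.left, fun i φ => ?_⟩
  have hcov : (⨆ V : s, V.1.1) = ⊤ := top_unique fun x _ => by
    obtain ⟨V, hV, hxV⟩ := Set.mem_iUnion₂.mp (hs (Set.mem_univ x))
    exact Opens.mem_iSup.mpr ⟨⟨V, hV⟩, hxV⟩
  refine (IsZariskiLocalAtTarget.iff_of_iSup_eq_top (P := @IsFinite) _ hcov).mpr fun V => ?_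
  exact hj V.1 (Over.mk (φ ≫ j₀.hom))
    ⟨(Over.homMk φ : Over.mk (φ ≫ j₀.hom) ⟶ j₀) ≫ (hj₀ (Finset.mem_image_of_mem j V.2)).some⟩

end Groth.Agent.LimIntFin
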